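import Groth.Agent.Lib.DerivPow1.Retraction
import Groth.Agent.Lib.PBasis.Field
import Mathlib

/-!
# Cofinite subfields with intersection `k^p`
-/

set_option autoImplicit false
universe u

open EGA41

namespace GrothLib.DerivPow1

/-- In characteristic `p`, `k^p` is the intersection of a directed family of cofinite subfields. -/
theorem exists_family (k : Type u) [Field k] (p : ℕ) [Fact p.Prime] [CharP k p] :
    ∃ (ι : Type u) (_ : Nonempty ι) (kk : ι → Subfield k),
      (∀ i j, ∃ l, kk l ≤ kk i ∧ kk l ≤ kk j) ∧ (∀ i (c : k), c ^ p ∈ kk i) ∧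
      (∀ c : k, (∀ i, c ∈ kk i) → ∃ y, y ^ p = c) ∧ ∀ i, Module.Finite (kk i) k := by
  classical
  obtain ⟨Γ, -, hΓ⟩ := GrothLib.PBasis.exists_pBasis_superset (p := p) (k := (⊥ : Subfield k)) (K := k)
    (x := fun e : PEmpty.{u+1} => e.elim) ((GrothLib.PBasis.isPIndependent_iff _).2 fun a => a.elim)
  obtain ⟨kk, hkk⟩ : ∃ kk : Finset Γ → Subfield k, ∀ s, kk s =
      (GrothLib.PBasis.genField p (⊥ : Subfield k) ((Subtype.val : Γ → k) '' {a | a ∉ s})).toSubfield :=
    ⟨_, fun _ => rfl⟩
  have hmono : ∀ s t : Finset Γ, s ⊆ t → kk t ≤ kk s := fun s t hst x hx => by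
    rw [hkk] at hx ⊢
    exact GrothLib.PBasis.genField_mono (Set.image_mono (s := {a : Γ | a ∉ t}) (t := {a : Γ | a ∉ s}) fun a (ha : a ∉ t) (h : a ∈ s) => ha (hst h)) hx
  have hpow : ∀ s (c : k), c ^ p ∈ kk s := fun s c => by
    rw [hkk]
    exact GrothLib.PBasis.pPower_le_genField _ (Algebra.subset_adjoin ⟨c, rfl⟩)
  have htop : ∀ b : k, b ∈ GrothLib.PBasis.genField p (⊥ : Subfield k) (Set.range (Subtype.val : Γ → k)) := by
    intro b
    rw [(GrothLib.PBasis.isPGenerating_iff _).1 hΓ.2]
    exact IntermediateField.mem_top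
  refine ⟨Finset Γ, ⟨∅⟩, kk, fun s t => ⟨s ∪ t, hmono _ _ Finset.subset_union_left, hmono _ _ Finset.subset_union_right⟩,
    hpow, fun c hc => ?_, fun s => ?_⟩
  · have hc0 := (GrothLib.PBasis.mem_genField_iff _ c).1 (htop c)
    rw [← Set.image_univ, Finsupp.mem_span_image_iff_linearCombination] at hc0
    obtain ⟨l, -, hl⟩ := hc0
    obtain ⟨s, hs⟩ : ∃ s : Finset Γ, ∀ e ∈ l.support, e.1.support ⊆ s :=
      ⟨l.support.biUnion fun e => e.1.support, fun e he => Finset.subset_biUnion_of_mem (fun e => e.1.support) he⟩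
    obtain ⟨l', hl's, hl'⟩ : ∃ l' ∈ Finsupp.supported (pPowerSubalgebra p (⊥ : Subfield k) k) (pPowerSubalgebra p (⊥ : Subfield k) k)
        {e : GrothLib.PBasis.Red p Γ | ∀ a ∈ e.1.support, a ∉ s},
        Finsupp.linearCombination (pPowerSubalgebra p (⊥ : Subfield k) k) (fun e : GrothLib.PBasis.Red p Γ => pMonomial (Subtype.val : Γ → k) e.1) l' = c := by
      rw [← Finsupp.mem_span_image_iff_linearCombination]
      have h1 := hc s
      rw [hkk, Set.image_eq_range] at h1
      refine Submodule.span_mono ?_ ((GrothLib.PBasis.mem_genField_iff _ c).1 h1)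
      rintro _ ⟨e, rfl⟩
      refine ⟨⟨e.1.mapDomain Subtype.val, fun a => ?_⟩, fun a ha => ?_, ?_⟩
      · by_cases ha : a ∈ Set.range (Subtype.val : {a : Γ | a ∉ s} → Γ)
        · obtain ⟨b, rfl⟩ := ha
          rw [Finsupp.mapDomain_apply Subtype.val_injective]
          exact e.2 b
        · rw [Finsupp.mapDomain_notin_range _ _ ha]
          exact (Fact.out : p.Prime).pos
      · obtain ⟨b, -, rfl⟩ := Finset.mem_image.1 (Finsupp.mapDomain_support ha)
        exact b.2
      · exact GrothLib.PBasis.pMonomial_mapDomain _ _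
    have hll : l = l' := hΓ.1 (hl.trans hl'.symm)
    have hsupp : ∀ e ∈ l.support, e = ⟨0, fun _ => (Fact.out : p.Prime).pos⟩ := fun e he => by
      refine Subtype.ext (Finsupp.support_eq_empty.1 (Finset.eq_empty_of_forall_notMem fun a ha => ?_))
      exact (Finsupp.mem_supported _ _).1 hl's (hll ▸ he) a ha (hs e he ha)
    have hcp : c ∈ pPowerSubalgebra p (⊥ : Subfield k) k := by
      rw [← hl, Finsupp.linearCombination_apply, Finsupp.sum]
      refine sum_mem fun e he => ?_
      obtain rfl := hsupp e he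
      simp only [pMonomial, Finsupp.prod_zero_index, Subalgebra.smul_def, smul_eq_mul, mul_one]
      exact Subtype.mem _
    have hle : ∀ x ∈ pPowerSubalgebra p (⊥ : Subfield k) k, x ∈ (frobenius k p).fieldRange := by
      intro x hx
      induction hx using Algebra.adjoin_induction with
      | mem b hb => obtain ⟨y, rfl⟩ := hb; exact ⟨y, frobenius_def p y⟩
      | algebraMap r => exact (bot_le : (⊥ : Subfield k) ≤ (frobenius k p).fieldRange) r.2
      | add a b _ _ ha hb => exact add_mem ha hb
      | mul a b _ _ ha hb => exact mul_mem ha hb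
    obtain ⟨y, hy⟩ := hle c hcp
    exact ⟨y, (frobenius_def p y).symm.trans hy⟩
  · have : FiniteDimensional (kk s) (IntermediateField.adjoin (kk s) ((Subtype.val : Γ → k) '' (s : Set Γ))) := by
      have := (s.finite_toSet.image (Subtype.val : Γ → k)).to_subtype
      exact IntermediateField.finiteDimensional_adjoin fun x _ =>
        ⟨Polynomial.X ^ p - Polynomial.C ⟨x ^ p, hpow s x⟩,
          Polynomial.monic_X_pow_sub_C _ (Fact.out : p.Prime).ne_zero, by
            rw [← Polynomial.aeval_def, map_sub, map_pow, Polynomial.aeval_X, Polynomial.aeval_C]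
            exact sub_self _⟩
    have heq : IntermediateField.adjoin (kk s) ((Subtype.val : Γ → k) '' (s : Set Γ)) = ⊤ := by
      refine eq_top_iff.2 fun b hb => ?_
      clear hb
      induction htop b using IntermediateField.adjoin_induction with
      | mem y hy =>
        rcases hy with ⟨z, rfl⟩ | ⟨a, rfl⟩
        · exact IntermediateField.algebraMap_mem _ (⟨z ^ p, hpow s z⟩ : kk s)
        · by_cases ha : a ∈ s
          · exact IntermediateField.subset_adjoin _ _ ⟨a, ha, rfl⟩
          · refine IntermediateField.algebraMap_mem _ (⟨a, ?_⟩ : kk s)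
            rw [hkk]
            exact GrothLib.PBasis.subset_genField _ ⟨a, ha, rfl⟩
      | algebraMap r =>
        refine IntermediateField.algebraMap_mem _ (⟨algebraMap _ k r, ?_⟩ : kk s)
        rw [hkk]
        exact IntermediateField.algebraMap_mem _ r
      | add _ _ _ _ h1 h2 => exact add_mem h1 h2
      | inv _ _ h1 => exact inv_mem h1
      | mul _ _ _ _ h1 h2 => exact mul_mem h1 h2
    rw [heq] at this
    exact Module.Finite.equiv (IntermediateField.topEquiv (F := kk s) (E := k)).toLinearEquiv

theorem exists_isRetr_subfield {k : Type u} [Field k] (L : Subfield k) :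
    ∃ r : k →+ k, IsRetr L.toSubring r := by
  obtain ⟨g, hg⟩ := LinearMap.exists_leftInverse_of_injective (Algebra.linearMap L k)
    (LinearMap.ker_eq_bot.2 (algebraMap L k).injective)
  refine ⟨((Algebra.linearMap L k).comp g).toAddMonoidHom, fun a => (g a).2, fun a c hc => ?_, ?_⟩
  · show ((g (a * c) : L) : k) = (g a : k) * c
    rw [show a * c = (⟨c, hc⟩ : L) • a from mul_comm a c, map_smul, smul_eq_mul, mul_comm]
    rfl
  · show ((g 1 : L) : k) = 1
    have := LinearMap.congr_fun hg 1
    simp only [LinearMap.comp_apply, Algebra.linearMap_apply, map_one, LinearMap.id_apply] at this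
    rw [this]; rfl

end GrothLib.DerivPow1
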