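import Groth.Agent.Lib.DerivPow1.Retraction
import Groth.Agent.Lib.DerivPow1.Family
import Groth.Agent.Lib.PBasis.Field
import Mathlib

/-!
# Derivations detecting non-`p`-th powers
-/

set_option autoImplicit false
universe u

open EGA41

namespace GrothLib.DerivPow1

/-- The intersection of the subfields generated by the members of a family with retractions is `K^p`. -/
theorem exists_pow_of_forall_mem {A L : Type u} [CommRing A] [Field L] [Algebra A L] [FaithfulSMul A L]
    {p : ℕ} [Fact p.Prime] {ι : Type u} (S : ι → Subring A) (r : ι → A →+ A) (hr : ∀ i, IsRetr (S i) (r i))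
    (hpow : ∀ i (a : A), a ^ p ∈ S i) (hinter : ∀ a : A, (∀ i, a ∈ S i) → ∃ y, y ^ p = a) (i₁ : ι) (c : L)
    (hc : ∀ i, c ∈ Subfield.closure (algebraMap A L '' (S i : Set A))) :
    ∃ a b : A, b ≠ 0 ∧ c = (algebraMap A L a / algebraMap A L b) ^ p := by
  have hinj := FaithfulSMul.algebraMap_injective A L
  have hp0 : p ≠ 0 := (Fact.out : p.Prime).ne_zero
  have hform : ∀ i, ∃ u ∈ S i, ∃ v ∈ S i, c = algebraMap A L u / algebraMap A L v := fun i => by
    obtain ⟨y, hy, z, hz, rfl⟩ := Subfield.mem_closure_iff.1 (hc i)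
    rw [← Subring.coe_map, Subring.closure_eq] at hy hz
    obtain ⟨u, hu, rfl⟩ := hy
    obtain ⟨v, hv, rfl⟩ := hz
    exact ⟨u, hu, v, hv, rfl⟩
  rcases eq_or_ne c 0 with rfl | hc0
  · have : Nontrivial A := by
      by_contra h
      rw [not_nontrivial_iff_subsingleton] at h
      exact one_ne_zero (α := L) (by rw [← map_one (algebraMap A L), Subsingleton.elim (1 : A) 0, map_zero])
    exact ⟨0, 1, one_ne_zero, by rw [map_zero, zero_div, zero_pow hp0]⟩
  obtain ⟨a, -, b, -, hab⟩ := hform i₁
  have hb0 : algebraMap A L b ≠ 0 := fun h => hc0 (by rw [hab, h, div_zero])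
  have hmem : ∀ i, a * b ^ (p - 1) ∈ S i := by
    intro i
    obtain ⟨u, hu, v, hv, huv⟩ := hform i
    have hv0 : algebraMap A L v ≠ 0 := fun h => hc0 (by rw [huv, h, div_zero])
    have heq : a * b ^ (p - 1) * v = b ^ p * u := by
      refine hinj ?_
      rw [← pow_sub_one_mul hp0 b]
      simp only [map_mul, map_pow]
      have := hab.symm.trans huv
      rw [div_eq_div_iff hb0 hv0] at this
      linear_combination (algebraMap A L b ^ (p - 1)) * this
    have h1 : r i (a * b ^ (p - 1)) * v = a * b ^ (p - 1) * v := by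
      rw [← (hr i).mul _ _ hv, (hr i).apply_of_mem]
      rw [heq]
      exact mul_mem (hpow i b) hu
    have h2 : algebraMap A L (r i (a * b ^ (p - 1))) = algebraMap A L (a * b ^ (p - 1)) :=
      mul_right_cancel₀ hv0 (by rw [← map_mul, h1, map_mul])
    exact hinj h2 ▸ (hr i).mem _
  obtain ⟨y, hy⟩ := hinter _ hmem
  refine ⟨y, b, fun h => hb0 (by rw [h, map_zero]), ?_⟩
  rw [hab, div_pow, ← map_pow, hy, ← map_pow, ← pow_sub_one_mul hp0 b, map_mul, map_mul, mul_comm (algebraMap A L a),
    mul_div_mul_left _ _ (by rw [map_pow]; exact pow_ne_zero _ hb0)]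

/-- If `f ∉ L^p`, some derivation of `L` vanishing on some `S i` does not kill `f`. -/
theorem exists_derivation_field {A : Type u} [CommRing A] [IsDomain A]
    {K : Type u} [Field K] [Algebra A K] [IsFractionRing A K]
    {L : Type u} [Field L] [Algebra A L] [Algebra K L] [IsScalarTower A K L] [FiniteDimensional K L]
    (p : ℕ) [Fact p.Prime] [CharP L p]
    {ι : Type u} [Nonempty ι] (S : ι → Subring A) (r : ι → A →+ A) (hr : ∀ i, IsRetr (S i) (r i))
    (hdir : ∀ i j, ∃ l, S l ≤ S i ∧ S l ≤ S j) (hpow : ∀ i (a : A), a ^ p ∈ S i)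
    (hinter : ∀ a : A, (∀ i, a ∈ S i) → ∃ y, y ^ p = a) (f : L) (hf : ∀ x : L, x ^ p ≠ f) :
    ∃ (i : ι) (D : L →+ L), (∀ a c : L, D (a * c) = a * D c + c * D a) ∧ (∀ s ∈ S i, D (algebraMap A L s) = 0) ∧ D f ≠ 0 := by
  classical
  have : FaithfulSMul A L := (faithfulSMul_iff_algebraMap_injective A L).2 (by
    rw [IsScalarTower.algebraMap_eq A K L]
    exact (algebraMap K L).injective.comp (IsFractionRing.injective A K))
  obtain ⟨E, hE⟩ : ∃ E : ι → Subfield L, ∀ i, E i = Subfield.closure (algebraMap A L '' (S i : Set A)) := ⟨_, fun _ => rfl⟩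
  have hEmono : ∀ i j, S i ≤ S j → E i ≤ E j := fun i j h => by
    rw [hE, hE]; exact Subfield.closure_mono (Set.image_mono h)
  have hEpow : ∀ i (a : K), algebraMap K L a ^ p ∈ E i := fun i a => by
    obtain ⟨x, y, -, rfl⟩ := IsFractionRing.div_surjective A a
    rw [map_div₀, ← IsScalarTower.algebraMap_apply, ← IsScalarTower.algebraMap_apply, div_pow, ← map_pow, ← map_pow, hE]
    exact div_mem (Subfield.subset_closure ⟨_, hpow i x, rfl⟩) (Subfield.subset_closure ⟨_, hpow i y, rfl⟩)
  have hsplit : ∀ i₀, ∀ c : L, (∀ j, S j ≤ S i₀ → c ∈ E j) → ∃ a : K, c = algebraMap K L a ^ p := by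
    intro i₀ c hc
    obtain ⟨a, b, -, rfl⟩ := exists_pow_of_forall_mem (L := L) S r hr hpow hinter i₀ c (fun i => by
      obtain ⟨l, hli, hl0⟩ := hdir i i₀
      exact hE i ▸ hEmono l i hli (hc l hl0))
    exact ⟨algebraMap A K a / algebraMap A K b, by rw [map_div₀, ← IsScalarTower.algebraMap_apply, ← IsScalarTower.algebraMap_apply]⟩
  obtain ⟨i₀, J, hJ, hmax⟩ : ∃ (i₀ : ι) (J : Finset (Fin (Module.finrank K L))),
      LinearIndepOn (E i₀) (fun j => Module.finBasis K L j ^ p) (J : Set (Fin (Module.finrank K L))) ∧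
      ∀ (i : ι) (J' : Finset (Fin (Module.finrank K L))), LinearIndepOn (E i) (fun j => Module.finBasis K L j ^ p) (J' : Set (Fin (Module.finrank K L))) → J'.card ≤ J.card := by
    have hex : (Finset.univ.filter fun J : Finset (Fin (Module.finrank K L)) => ∃ i, LinearIndepOn (E i)
        (fun j => Module.finBasis K L j ^ p) (J : Set (Fin (Module.finrank K L)))).Nonempty :=
      ⟨∅, Finset.mem_filter.2 ⟨Finset.mem_univ _, Classical.arbitrary ι, by rw [Finset.coe_empty]; exact linearIndepOn_empty _ _⟩⟩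
    obtain ⟨J, hJm, hmax⟩ := Finset.exists_max_image _ Finset.card hex
    obtain ⟨i₀, hi₀⟩ := (Finset.mem_filter.1 hJm).2
    exact ⟨i₀, J, hi₀, fun i J' h => hmax J' (Finset.mem_filter.2 ⟨Finset.mem_univ _, i, h⟩)⟩
  -- linear combinations over smaller fields
  have huniq : ∀ j, S j ≤ S i₀ → ∀ c d : Fin (Module.finrank K L) → L, (∀ l, c l ∈ E i₀) → (∀ l, d l ∈ E i₀) →
      ∑ l ∈ J, c l * Module.finBasis K L l ^ p = ∑ l ∈ J, d l * Module.finBasis K L l ^ p → ∀ l ∈ J, c l = d l := by
    intro j _ c d hc hd hcd l hl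
    have h0 := linearIndepOn_finset_iff.1 hJ (fun l => (⟨c l - d l, sub_mem (hc l) (hd l)⟩ : E i₀)) (by
      simp only [Subfield.smul_def, smul_eq_mul, sub_mul, Finset.sum_sub_distrib, hcd, sub_self]) l hl
    exact sub_eq_zero.1 (congrArg Subtype.val h0)
  have hspan : ∀ i, S i ≤ S i₀ → ∀ l, Module.finBasis K L l ^ p ∈
      Submodule.span (E i) ((fun j => Module.finBasis K L j ^ p) '' (J : Set (Fin (Module.finrank K L)))) := by
    intro i hi l
    have hJi : LinearIndepOn (E i) (fun j => Module.finBasis K L j ^ p) (J : Set (Fin (Module.finrank K L))) := by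
      refine linearIndepOn_finset_iff.2 fun g hg x hx => Subtype.ext ?_
      exact huniq i hi (fun l => (g l : L)) (fun _ => 0) (fun l => hEmono i i₀ hi (g l).2) (fun _ => zero_mem _)
        (by simp only [zero_mul, Finset.sum_const_zero]; simpa only [Subfield.smul_def, smul_eq_mul] using hg) x hx
    by_cases hl : l ∈ J
    · exact Submodule.subset_span ⟨l, hl, rfl⟩
    · by_contra hn
      have := hmax i (insert l J) (by
        rw [Finset.coe_insert]
        exact hJi.insert hn)
      rw [Finset.card_insert_of_notMem hl] at this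
      omega
  have hexp : ∀ c : L, (∀ i, S i ≤ S i₀ → c ∈ Submodule.span (E i) ((fun j => Module.finBasis K L j ^ p) '' (J : Set (Fin (Module.finrank K L))))) →
      ∃ a : Fin (Module.finrank K L) → K, c = (∑ l ∈ J, algebraMap K L (a l) * Module.finBasis K L l) ^ p := by
    intro c hc
    have hco : ∀ i, S i ≤ S i₀ → ∃ g : Fin (Module.finrank K L) → L, (∀ l, g l ∈ E i) ∧
        ∑ l ∈ J, g l * Module.finBasis K L l ^ p = c := fun i hi => by
      obtain ⟨g, hg⟩ := (Submodule.mem_span_image_finset_iff_exists_fun' _).1 (hc i hi)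
      exact ⟨fun l => (g l : L), fun l => (g l).2, by simpa only [Subfield.smul_def, smul_eq_mul] using hg⟩
    obtain ⟨g, hg, hgc⟩ := hco i₀ le_rfl
    have hga : ∀ l ∈ J, ∃ a : K, g l = algebraMap K L a ^ p := fun l hl => hsplit i₀ _ fun i hi => by
      obtain ⟨g', hg', hgc'⟩ := hco i hi
      rw [huniq i hi g g' hg (fun l => hEmono i i₀ hi (hg' l)) (hgc.trans hgc'.symm) l hl]
      exact hg' l
    choose! a ha using hga
    refine ⟨a, ?_⟩
    rw [sum_pow_char, ← hgc]
    exact Finset.sum_congr rfl fun l hl => by rw [mul_pow, ha l hl]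
  -- the reduced monomials form a basis over every smaller field
  have hJuniv : ∀ l, l ∈ J := by
    intro l
    by_contra hl
    obtain ⟨a, ha⟩ := hexp _ (fun i hi => hspan i hi l)
    have h1 := frobenius_inj L p ha
    have h2 := congrArg (fun v => (Module.finBasis K L).repr v l) h1
    simp only [← Algebra.smul_def, map_sum, map_smul, Module.Basis.repr_self, Finsupp.single_eq_same,
      Finsupp.coe_finsetSum, Finset.sum_apply, Finsupp.smul_apply, smul_eq_mul] at h2
    rw [Finset.sum_eq_zero fun j hj => by rw [Finsupp.single_eq_of_ne (fun h : l = j => hl (h ▸ hj)), mul_zero]] at h2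
    exact one_ne_zero h2
  have hmem : ∀ i, S i ≤ S i₀ → ∀ y : L, y ^ p ∈ Submodule.span (E i) ((fun j => Module.finBasis K L j ^ p) '' (J : Set (Fin (Module.finrank K L)))) := by
    intro i hi y
    rw [← (Module.finBasis K L).sum_repr y, sum_pow_char]
    refine sum_mem fun l _ => ?_
    rw [Algebra.smul_def, mul_pow]
    exact Submodule.smul_mem _ (⟨_, hEpow i _⟩ : E i) (Submodule.subset_span ⟨l, hJuniv l, rfl⟩)
  obtain ⟨i, hi, hfi⟩ : ∃ i, S i ≤ S i₀ ∧ f ∉ Submodule.span (E i) ((fun j => Module.finBasis K L j ^ p) '' (J : Set (Fin (Module.finrank K L)))) := by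
    by_contra hne
    push Not at hne
    obtain ⟨a, ha⟩ := hexp f hne
    exact hf _ ha.symm
  have hnot : f ∉ GrothLib.PBasis.genField p (E i) (∅ : Set L) := by
    intro hmemf
    rw [← Set.range_eq_empty (fun e : PEmpty.{u+1} => (e.elim : L)), GrothLib.PBasis.mem_genField_iff] at hmemf
    have hT : ∀ y z : L, y ∈ Submodule.span (E i) ((fun j => Module.finBasis K L j ^ p) '' (J : Set (Fin (Module.finrank K L)))) →
        z ∈ Submodule.span (E i) ((fun j => Module.finBasis K L j ^ p) '' (J : Set (Fin (Module.finrank K L)))) →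
        y * z ∈ Submodule.span (E i) ((fun j => Module.finBasis K L j ^ p) '' (J : Set (Fin (Module.finrank K L)))) := by
      intro y z hy hz
      induction hy, hz using Submodule.span_induction₂ with
      | mem_mem x y hx hy =>
        obtain ⟨j, -, rfl⟩ := hx
        obtain ⟨k, -, rfl⟩ := hy
        show Module.finBasis K L j ^ p * Module.finBasis K L k ^ p ∈ _
        rw [← mul_pow]; exact hmem i hi _
      | zero_left => simp
      | zero_right => simp
      | add_left _ _ _ _ _ _ h1 h2 => rw [add_mul]; exact add_mem h1 h2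
      | add_right _ _ _ _ _ _ h1 h2 => rw [mul_add]; exact add_mem h1 h2
      | smul_left r _ _ _ _ h1 => rw [smul_mul_assoc]; exact Submodule.smul_mem _ r h1
      | smul_right r _ _ _ _ h1 => rw [mul_smul_comm]; exact Submodule.smul_mem _ r h1
    have hsub : ∀ y ∈ pPowerSubalgebra p (E i) L, y ∈ Submodule.span (E i) ((fun j => Module.finBasis K L j ^ p) '' (J : Set (Fin (Module.finrank K L)))) := by
      intro y hy
      induction hy using Algebra.adjoin_induction with
      | mem b hb => obtain ⟨z, rfl⟩ := hb; exact hmem i hi z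
      | algebraMap e =>
        rw [Algebra.algebraMap_eq_smul_one]
        refine Submodule.smul_mem _ e ?_
        rw [← one_pow (M := L) p]; exact hmem i hi 1
      | add a b _ _ ha hb => exact add_mem ha hb
      | mul a b _ _ ha hb => exact hT a b ha hb
    obtain ⟨l, -, hl⟩ := (Finsupp.mem_span_image_iff_linearCombination _).1 (by rw [← Set.image_univ] at hmemf; exact hmemf)
    refine hfi (hsub f ?_)
    rw [← hl, Finsupp.linearCombination_apply, Finsupp.sum]
    refine sum_mem fun e _ => ?_
    obtain rfl : e = ⟨0, fun a => a.elim⟩ := Subtype.ext (Finsupp.ext fun a => a.elim)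
    simp only [pMonomial, Finsupp.prod_zero_index, Subalgebra.smul_def, smul_eq_mul, mul_one]
    exact Subtype.mem _
  have hind : IsPIndependent p (E i) (fun _ : PUnit.{u+1} => f) := by
    rw [GrothLib.PBasis.isPIndependent_iff]
    intro a ha
    refine hnot (GrothLib.PBasis.genField_mono ?_ ha)
    rintro _ ⟨b, hb, rfl⟩
    exact absurd rfl hb
  have hDf : KaehlerDifferential.D (E i) L f ≠ 0 :=
    ((GrothLib.PBasis.isPIndependent_iff_linearIndependent _).1 hind).ne_zero PUnit.unit
  obtain ⟨φ, hφ⟩ := Module.Projective.exists_dual_ne_zero L hDf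
  refine ⟨i, AddMonoidHom.mk' (fun y => φ (KaehlerDifferential.D (E i) L y)) (fun y z => by simp),
    fun y z => ?_, fun s hs => ?_, hφ⟩
  · show φ (KaehlerDifferential.D (E i) L (y * z)) = _
    rw [Derivation.leibniz, map_add, map_smul, map_smul]
    rfl
  show φ (KaehlerDifferential.D (E i) L (algebraMap A L s)) = 0
  rw [show algebraMap A L s = algebraMap (E i) L ⟨algebraMap A L s, hE i ▸ Subfield.subset_closure ⟨s, hs, rfl⟩⟩ from rfl,
    Derivation.map_algebraMap, map_zero]

/-- `k⟦X⟧` is finitely spanned over the series with `p`-divisible exponents and coefficients in a cofinite subfield. -/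
theorem exists_span_mvPowerSeries {k : Type u} [Field k] {σ : Type u} [Fintype σ] {p : ℕ} (hp : 0 < p)
    (L : Subfield k) [Module.Finite L k] (S : Subring (MvPowerSeries σ k))
    (hS : ∀ a, a ∈ S ↔ ∀ t, MvPowerSeries.coeff t a ∈ L.toSubring ∧ (¬ PDiv p t → MvPowerSeries.coeff t a = 0)) :
    ∃ G : Finset (MvPowerSeries σ k), ∀ y, y ∈ Submodule.span S (G : Set (MvPowerSeries σ k)) := by
  classical
  obtain ⟨n, β, hβ⟩ : ∃ (n : ℕ) (β : Module.Basis (Fin n) L k), True := ⟨_, Module.finBasis L k, trivial⟩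
  refine ⟨(Finset.univ : Finset ((σ → Fin p) × Fin n)).image fun eb =>
    MvPowerSeries.monomial (Finsupp.equivFunOnFinite.symm fun i => (eb.1 i : ℕ)) (β eb.2), fun y => ?_⟩
  obtain ⟨h, hh⟩ : ∃ h : (σ → Fin p) × Fin n → MvPowerSeries σ k, ∀ eb t, MvPowerSeries.coeff t (h eb) =
      if PDiv p t then ((β.repr (MvPowerSeries.coeff (t + Finsupp.equivFunOnFinite.symm fun i => (eb.1 i : ℕ)) y) eb.2 : L) : k) else 0 :=
    ⟨fun eb t => if PDiv p t then ((β.repr (MvPowerSeries.coeff (t + Finsupp.equivFunOnFinite.symm fun i => (eb.1 i : ℕ)) y) eb.2 : L) : k) else 0,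
      fun eb t => rfl⟩
  have hhS : ∀ eb, h eb ∈ S := fun eb => (hS _).2 fun t => by
    rw [hh]
    split_ifs with ht
    · exact ⟨Subtype.mem _, fun h' => absurd ht h'⟩
    · exact ⟨zero_mem _, fun _ => rfl⟩
  have hy : y = ∑ eb : (σ → Fin p) × Fin n,
      h eb * MvPowerSeries.monomial (Finsupp.equivFunOnFinite.symm fun i => (eb.1 i : ℕ)) (β eb.2) := by
    refine MvPowerSeries.ext fun t => ?_
    rw [map_sum, Fintype.sum_prod_type]
    rw [Finset.sum_eq_single (fun i => (⟨t i % p, Nat.mod_lt _ hp⟩ : Fin p))]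
    · simp only [MvPowerSeries.coeff_mul_monomial, hh]
      have hle : (Finsupp.equivFunOnFinite.symm fun i => t i % p : σ →₀ ℕ) ≤ t := fun i => by
        simp only [Finsupp.coe_equivFunOnFinite_symm]; exact Nat.mod_le _ _
      have hdiv : PDiv p (t - Finsupp.equivFunOnFinite.symm fun i => t i % p) := fun i => by
        simp only [Finsupp.coe_tsub, Pi.sub_apply, Finsupp.coe_equivFunOnFinite_symm]
        exact Nat.dvd_sub_mod _
      simp only [if_pos hle, if_pos hdiv, tsub_add_cancel_of_le hle]
      conv_lhs => rw [← β.sum_repr (MvPowerSeries.coeff t y)]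
      exact Finset.sum_congr rfl fun b _ => Subfield.smul_def _ _
    · intro e _ he
      refine Finset.sum_eq_zero fun b _ => ?_
      rw [MvPowerSeries.coeff_mul_monomial]
      split_ifs with hle
      · rw [hh, if_neg, zero_mul]
        intro hd
        refine he (funext fun i => Fin.ext ?_)
        have h1 := hd i
        have h2 := hle i
        simp only [Finsupp.coe_tsub, Pi.sub_apply, Finsupp.coe_equivFunOnFinite_symm] at h1 h2
        show (e i : ℕ) = t i % p
        obtain ⟨q, hq⟩ := h1
        rw [show t i = (e i : ℕ) + p * q by omega, Nat.add_mul_mod_self_left, Nat.mod_eq_of_lt (e i).2]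
      · rfl
    · intro hn; exact absurd (Finset.mem_univ _) hn
  rw [hy]
  refine sum_mem fun eb _ => ?_
  exact Submodule.smul_mem _ (⟨h eb, hhS eb⟩ : S) (Submodule.subset_span (Finset.mem_coe.2 (Finset.mem_image_of_mem _ (Finset.mem_univ eb))))

end GrothLib.DerivPow1
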