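import Mathlib

/-!
# Retractions onto subrings of `p`-th power type in (power series) polynomial rings
-/

set_option autoImplicit false
universe u v

namespace GrothLib.DerivPow1

/-- All exponents divisible by `p`. -/
def PDiv {σ : Type v} (p : ℕ) (t : σ →₀ ℕ) : Prop := ∀ i, p ∣ t i

theorem PDiv.zero {σ : Type v} (p : ℕ) : PDiv p (0 : σ →₀ ℕ) := fun i => by simp

theorem PDiv.add {σ : Type v} {p : ℕ} {a b : σ →₀ ℕ} (ha : PDiv p a) (hb : PDiv p b) : PDiv p (a + b) :=
  fun i => dvd_add (ha i) (hb i)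

theorem PDiv.of_add {σ : Type v} {p : ℕ} {a b : σ →₀ ℕ} (h : PDiv p (a + b)) (hb : PDiv p b) : PDiv p a :=
  fun i => (Nat.dvd_add_left (hb i)).1 (h i)

theorem PDiv.exists_eq_smul {σ : Type v} {p : ℕ} {t : σ →₀ ℕ} (h : PDiv p t) : ∃ m, p • m = t :=
  ⟨t.mapRange (· / p) (Nat.zero_div p), Finsupp.ext fun i => by simp [Nat.mul_div_cancel' (h i)]⟩

theorem pDiv_smul {σ : Type v} (p : ℕ) (m : σ →₀ ℕ) : PDiv p (p • m) := fun i => by simp

variable {A : Type u} [CommRing A]

/-- `r` is an `S`-linear retraction of `A` onto the subring `S`. -/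
structure IsRetr (S : Subring A) (r : A →+ A) : Prop where
  mem : ∀ a, r a ∈ S
  mul : ∀ a, ∀ c ∈ S, r (a * c) = r a * c
  one : r 1 = 1

theorem IsRetr.apply_of_mem {S : Subring A} {r : A →+ A} (h : IsRetr S r) {c : A} (hc : c ∈ S) : r c = c := by
  rw [← one_mul c, h.mul 1 c hc, h.one]

variable (σ : Type v) (p : ℕ)

theorem exists_retr_mvPowerSeries {S₀ : Subring A} {r₀ : A →+ A} (h₀ : IsRetr S₀ r₀) :
    ∃ (S : Subring (MvPowerSeries σ A)) (r : MvPowerSeries σ A →+ MvPowerSeries σ A), IsRetr S r ∧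
      ∀ a, a ∈ S ↔ ∀ t, MvPowerSeries.coeff t a ∈ S₀ ∧ (¬ PDiv p t → MvPowerSeries.coeff t a = 0) := by
  classical
  obtain ⟨S, hS⟩ : ∃ S : Subring (MvPowerSeries σ A),
      ∀ a, a ∈ S ↔ ∀ t, MvPowerSeries.coeff t a ∈ S₀ ∧ (¬ PDiv p t → MvPowerSeries.coeff t a = 0) :=
    ⟨{ carrier := {a | ∀ t, MvPowerSeries.coeff t a ∈ S₀ ∧ (¬ PDiv p t → MvPowerSeries.coeff t a = 0)}
       mul_mem' := fun {a b} ha hb t => by
         rw [MvPowerSeries.coeff_mul]
         refine ⟨sum_mem fun x _ => mul_mem (ha _).1 (hb _).1, fun ht => Finset.sum_eq_zero fun x hx => ?_⟩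
         rw [Finset.HasAntidiagonal.mem_antidiagonal] at hx
         by_cases h1 : PDiv p x.1
         · rw [(hb x.2).2 fun h2 => ht (hx ▸ h1.add h2), mul_zero]
         · rw [(ha x.1).2 h1, zero_mul]
       one_mem' := fun t => by
         rw [MvPowerSeries.coeff_one]
         split_ifs with h
         · exact ⟨one_mem _, fun h' => absurd (h ▸ PDiv.zero p) h'⟩
         · exact ⟨zero_mem _, fun _ => rfl⟩
       add_mem' := fun {a b} ha hb t => by
         rw [map_add]
         exact ⟨add_mem (ha t).1 (hb t).1, fun ht => by rw [(ha t).2 ht, (hb t).2 ht, add_zero]⟩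
       zero_mem' := fun t => by rw [map_zero]; exact ⟨zero_mem _, fun _ => rfl⟩
       neg_mem' := fun {a} ha t => by
         rw [map_neg]
         exact ⟨neg_mem (ha t).1, fun ht => by rw [(ha t).2 ht, neg_zero]⟩ }, fun a => Iff.rfl⟩
  obtain ⟨r, hr⟩ : ∃ r : MvPowerSeries σ A →+ MvPowerSeries σ A, ∀ a t,
      MvPowerSeries.coeff t (r a) = if PDiv p t then r₀ (MvPowerSeries.coeff t a) else 0 :=
    ⟨AddMonoidHom.mk' (fun a t => if PDiv p t then r₀ (MvPowerSeries.coeff t a) else 0) (fun a b => by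
      funext t
      show _ = (if PDiv p t then r₀ (MvPowerSeries.coeff t a) else 0) + (if PDiv p t then r₀ (MvPowerSeries.coeff t b) else 0)
      simp only [map_add]
      split_ifs <;> simp), fun a t => rfl⟩
  refine ⟨S, r, ⟨fun a => (hS _).2 fun t => ?_, fun a c hc => MvPowerSeries.ext fun t => ?_, MvPowerSeries.ext fun t => ?_⟩, hS⟩
  · rw [hr]
    split_ifs with h
    · exact ⟨h₀.mem _, fun h' => absurd h h'⟩
    · exact ⟨zero_mem _, fun _ => rfl⟩
  · rw [hr, MvPowerSeries.coeff_mul, MvPowerSeries.coeff_mul, map_sum]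
    have hc' := (hS c).1 hc
    split_ifs with ht
    · refine Finset.sum_congr rfl fun x hx => ?_
      rw [Finset.HasAntidiagonal.mem_antidiagonal] at hx
      by_cases h2 : PDiv p x.2
      · rw [hr, if_pos ((hx ▸ ht : PDiv p (x.1 + x.2)).of_add h2), h₀.mul _ _ (hc' _).1]
      · rw [(hc' _).2 h2, mul_zero, map_zero, mul_zero]
    · refine (Finset.sum_eq_zero fun x hx => ?_).symm
      rw [Finset.HasAntidiagonal.mem_antidiagonal] at hx
      rw [hr]
      split_ifs with h1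
      · rw [(hc' _).2 fun h2 => ht (hx ▸ h1.add h2), mul_zero]
      · rw [zero_mul]
  · rw [hr, MvPowerSeries.coeff_one]
    by_cases h0 : t = 0
    · subst h0
      rw [if_pos (PDiv.zero p), if_pos rfl, h₀.one]
    · rw [if_neg h0, map_zero, ite_self]

theorem exists_retr_mvPolynomial {S₀ : Subring A} {r₀ : A →+ A} (h₀ : IsRetr S₀ r₀) :
    ∃ (S : Subring (MvPolynomial σ A)) (r : MvPolynomial σ A →+ MvPolynomial σ A), IsRetr S r ∧
      ∀ a, a ∈ S ↔ ∀ t, MvPolynomial.coeff t a ∈ S₀ ∧ (¬ PDiv p t → MvPolynomial.coeff t a = 0) := by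
  classical
  obtain ⟨S', r', hr', hS'⟩ := exists_retr_mvPowerSeries σ p h₀
  obtain ⟨S, hS⟩ : ∃ S : Subring (MvPolynomial σ A),
      ∀ a, a ∈ S ↔ ∀ t, MvPolynomial.coeff t a ∈ S₀ ∧ (¬ PDiv p t → MvPolynomial.coeff t a = 0) :=
    ⟨S'.comap (MvPolynomial.coeToMvPowerSeries.ringHom), fun a => by
      rw [Subring.mem_comap, hS']
      simp only [MvPolynomial.coeToMvPowerSeries.ringHom_apply, MvPolynomial.coeff_coe]⟩
  obtain ⟨r, hr⟩ : ∃ r : MvPolynomial σ A →+ MvPolynomial σ A, ∀ a t,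
      MvPolynomial.coeff t (r a) = if PDiv p t then r₀ (MvPolynomial.coeff t a) else 0 := by
    refine ⟨AddMonoidHom.mk' (fun a => ∑ t ∈ a.support, MvPolynomial.monomial t (if PDiv p t then r₀ (MvPolynomial.coeff t a) else 0))
      (fun a b => ?_), fun a t => ?_⟩
    rotate_left
    · simp only [AddMonoidHom.mk'_apply, MvPolynomial.coeff_sum, MvPolynomial.coeff_monomial, Finset.sum_ite_eq']
      split_ifs <;> simp_all
    · ext t
      simp only [MvPolynomial.coeff_add, MvPolynomial.coeff_sum, MvPolynomial.coeff_monomial, Finset.sum_ite_eq']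
      by_cases ha : MvPolynomial.coeff t a = 0 <;> by_cases hb : MvPolynomial.coeff t b = 0 <;>
        by_cases hab : MvPolynomial.coeff t a + MvPolynomial.coeff t b = 0 <;>
        by_cases ht : PDiv p t <;> simp_all [MvPolynomial.mem_support_iff, ← map_add]
  refine ⟨S, r, ⟨fun a => (hS _).2 fun t => ?_, fun a c hc => MvPolynomial.ext _ _ fun t => ?_, MvPolynomial.ext _ _ fun t => ?_⟩, hS⟩
  · rw [hr]
    split_ifs with h
    · exact ⟨h₀.mem _, fun h' => absurd h h'⟩
    · exact ⟨zero_mem _, fun _ => rfl⟩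
  · rw [hr, MvPolynomial.coeff_mul, MvPolynomial.coeff_mul, map_sum]
    have hc' := (hS c).1 hc
    split_ifs with ht
    · refine Finset.sum_congr rfl fun x hx => ?_
      rw [Finset.HasAntidiagonal.mem_antidiagonal] at hx
      by_cases h2 : PDiv p x.2
      · rw [hr, if_pos ((hx ▸ ht : PDiv p (x.1 + x.2)).of_add h2), h₀.mul _ _ (hc' _).1]
      · rw [(hc' _).2 h2, mul_zero, map_zero, mul_zero]
    · refine (Finset.sum_eq_zero fun x hx => ?_).symm
      rw [Finset.HasAntidiagonal.mem_antidiagonal] at hx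
      rw [hr]
      split_ifs with h1
      · rw [(hc' _).2 fun h2 => ht (hx ▸ h1.add h2), mul_zero]
      · rw [zero_mul]
  · rw [hr, MvPolynomial.coeff_one]
    by_cases h0 : 0 = t
    · subst h0
      rw [if_pos (PDiv.zero p), if_pos rfl, h₀.one]
    · rw [if_neg h0, map_zero, ite_self]

variable [hp : Fact p.Prime] [CharP A p]

theorem coeff_pow_mvPowerSeries (y : MvPowerSeries σ A) (t : σ →₀ ℕ) :
    (∃ c, MvPowerSeries.coeff t (y ^ p) = c ^ p) ∧ (¬ PDiv p t → MvPowerSeries.coeff t (y ^ p) = 0) := by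
  rw [← MvPowerSeries.map_frobenius_expand p hp.out.ne_zero, MvPowerSeries.coeff_map]
  refine ⟨⟨_, rfl⟩, fun ht => ?_⟩
  simp only [PDiv, not_forall] at ht
  obtain ⟨i, hi⟩ := ht
  rw [MvPowerSeries.coeff_expand_of_not_dvd p hp.out.ne_zero y hi, map_zero]

theorem exists_pow_mvPowerSeries (a : MvPowerSeries σ A)
    (h : ∀ t, (∃ c, MvPowerSeries.coeff t a = c ^ p) ∧ (¬ PDiv p t → MvPowerSeries.coeff t a = 0)) :
    ∃ y, y ^ p = a := by
  choose c hc using fun t => (h t).1
  refine ⟨fun m => c (p • m), MvPowerSeries.ext fun t => ?_⟩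
  rw [← MvPowerSeries.map_frobenius_expand p hp.out.ne_zero, MvPowerSeries.coeff_map]
  by_cases ht : PDiv p t
  · obtain ⟨m, rfl⟩ := ht.exists_eq_smul
    rw [MvPowerSeries.coeff_expand_smul, hc, frobenius_def]
    rfl
  · rw [(h t).2 ht]
    simp only [PDiv, not_forall] at ht
    obtain ⟨i, hi⟩ := ht
    rw [MvPowerSeries.coeff_expand_of_not_dvd p hp.out.ne_zero _ hi, map_zero]

theorem coeff_pow_mvPolynomial (y : MvPolynomial σ A) (t : σ →₀ ℕ) :
    (∃ c, MvPolynomial.coeff t (y ^ p) = c ^ p) ∧ (¬ PDiv p t → MvPolynomial.coeff t (y ^ p) = 0) := by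
  rw [← MvPolynomial.map_frobenius_expand (p := p), MvPolynomial.coeff_map]
  refine ⟨⟨_, rfl⟩, fun ht => ?_⟩
  simp only [PDiv, not_forall] at ht
  obtain ⟨i, hi⟩ := ht
  rw [MvPolynomial.coeff_expand_of_not_dvd (φ := y) hi, map_zero]

theorem exists_pow_mvPolynomial (a : MvPolynomial σ A)
    (h : ∀ t, (∃ c, MvPolynomial.coeff t a = c ^ p) ∧ (¬ PDiv p t → MvPolynomial.coeff t a = 0)) :
    ∃ y, y ^ p = a := by
  classical
  choose c hc using fun t => (h t).1
  refine ⟨∑ t ∈ a.support, MvPolynomial.monomial (t.mapRange (· / p) (Nat.zero_div p)) (c t), ?_⟩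
  rw [sum_pow_char]
  conv_rhs => rw [MvPolynomial.as_sum a]
  refine Finset.sum_congr rfl fun t ht => ?_
  rw [MvPolynomial.monomial_pow, hc]
  congr 2
  obtain ⟨m, rfl⟩ : ∃ m, p • m = t :=
    (by_contra fun h' => MvPolynomial.mem_support_iff.1 ht ((h t).2 h') : PDiv p t).exists_eq_smul
  ext i
  simp [Nat.mul_div_cancel_left _ hp.out.pos]

end GrothLib.DerivPow1
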